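import Cfsg.Agent.H305.PG.Tau

/-!
# `F₄(k)`, characteristic 2: the subgroup of the 18 higher roots, Lang's theorem for `τ` (helper305)
-/

set_option autoImplicit false
set_option linter.unusedSectionVars false

namespace Cfsg.Agent.H305.PG

open Cfsg Cfsg.Lie Cfsg.Agent.ChevalleyStructure Cfsg.Agent.ChevalleyStructure.Elts
open Cfsg.Agent.ChevalleyStructure.TwF4 Cfsg.Agent.ChevalleyStructure.TwF4.Fix
open Cfsg.Agent.ChevalleyStructure.TwF4.Rel (bar refl refl_lt)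
open Cfsg.Agent.H493.F4End Cfsg.Agent.H420.PG Cfsg.Agent.LangThm
open scoped commutatorElement

universe u v

/-- the roots of level at least 1/2 -/
def S5 : List ℕ := [28, 29, 30, 31, 32, 35, 36, 37, 38, 39, 40, 41, 42, 43, 44, 45, 46, 47]

/-- the roots of the first level -/
def S2 : List ℕ := [25, 26, 27, 34]

/-- `x_s^{x_r} ∈ x_s N₅` -/
def okN (r s : ℕ) : Bool := decide (r < 48) && (decide (s < 48) && ((s == r) || ((s != chevF4.neg r) &&
  (odd3 chevF4 r s).all fun c => S5.contains c.1)))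

theorem okN_all : ((S2 ++ S5).all fun r => (S2 ++ S5).all fun s => okN r s) = true := by decide +kernel

theorem S5_N : (S5.all fun r => decide (r < 48) && S5.contains (Nr r)) = true := by decide +kernel

section
variable {k : Type u} [Field k] [CharP k 2] {m : ℕ}

variable (k) in
/-- the subgroup of the higher roots -/
def N5 : Subgroup ↥(chevF4.group k) := Subgroup.closure {g | ∃ r ∈ S5, ∃ t : k, g = xg r t}

theorem xg_mem_N5 {r : ℕ} (h : r ∈ S5) (t : k) : xg r t ∈ N5 k := Subgroup.subset_closure ⟨r, h, t, rfl⟩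

theorem S5_lt {r : ℕ} (h : r ∈ S5) : r < 48 := by
  have h1 := S5_N
  rw [List.all_eq_true] at h1
  have h2 := h1 r h
  rw [Bool.and_eq_true, decide_eq_true_eq] at h2
  exact h2.1

theorem S5_Nr {r : ℕ} (h : r ∈ S5) : Nr r ∈ S5 := by
  have h1 := S5_N
  rw [List.all_eq_true] at h1
  have h2 := h1 r h
  rw [Bool.and_eq_true, List.contains_iff_mem] at h2
  exact h2.2

theorem conj_okN {r s : ℕ} (h : okN r s = true) (t u : k) :
    ∃ n ∈ N5 k, (xg r t)⁻¹ * xg s u * xg r t = xg s u * n := by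
  unfold okN at h
  rw [Bool.and_eq_true, Bool.and_eq_true, Bool.or_eq_true, Bool.and_eq_true, decide_eq_true_eq, decide_eq_true_eq,
    beq_iff_eq] at h
  obtain ⟨hr, hs, h⟩ := h
  by_cases hrs : s = r
  · subst hrs
    refine ⟨1, one_mem _, ?_⟩
    rw [mul_one, mul_assoc, xg_add, xg_inv, xg_add]
    congr 1
    calc t + (u + t) = u + (t + t) := by ring
      _ = u := by rw [CharTwo.add_self_eq_zero, add_zero]
  · obtain ⟨h1, h2⟩ := h.resolve_left hrs
    have h3 : okB chevF4 r s (odd3 chevF4 r s) = true := by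
      unfold okB
      simp only [Bool.and_eq_true, decide_eq_true_eq, beq_self_eq_true, and_true]
      exact ⟨hr, hs, by simpa using hrs, h1⟩
    have h4 := xg_rel h3 t u
    refine ⟨((odd3 chevF4 r s).map fun c => xg c.1 (t ^ c.2.1 * u ^ c.2.2)).prod, ?_, ?_⟩
    · refine Subgroup.list_prod_mem _ fun g hg => ?_
      obtain ⟨c, hc, rfl⟩ := List.mem_map.1 hg
      rw [List.all_eq_true] at h2
      exact xg_mem_N5 (List.contains_iff_mem.1 (h2 c hc)) _
    · rw [mul_assoc, h4, mul_assoc, inv_mul_cancel_left]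

theorem okN_of {r s : ℕ} (hr : r ∈ S2 ++ S5) (hs : s ∈ S2 ++ S5) : okN r s = true := by
  have h := okN_all
  rw [List.all_eq_true] at h
  have h1 := h r hr
  rw [List.all_eq_true] at h1
  exact h1 s hs

/-- the first level normalizes `N₅` -/
theorem conj_N5 {r : ℕ} (hr : r ∈ S2 ++ S5) (t : k) {n : ↥(chevF4.group k)} (hn : n ∈ N5 k) :
    (xg r t)⁻¹ * n * xg r t ∈ N5 k := by
  have h1 : N5 k ≤ (N5 k).comap (MulAut.conj (xg r t)⁻¹).toMonoidHom := by
    refine (Subgroup.closure_le _).2 ?_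
    rintro _ ⟨s, hs, u, rfl⟩
    show (xg r t)⁻¹ * xg s u * (xg r t)⁻¹⁻¹ ∈ N5 k
    rw [inv_inv]
    obtain ⟨n, hn, e⟩ := conj_okN (okN_of hr (List.mem_append_right _ hs)) t u
    rw [e]
    exact mul_mem (xg_mem_N5 hs u) hn
  have h2 := h1 hn
  rw [Subgroup.mem_comap] at h2
  change (xg r t)⁻¹ * n * (xg r t)⁻¹⁻¹ ∈ N5 k at h2
  rwa [inv_inv] at h2

theorem tau_N5 {g : ↥(chevF4.group k)} (hg : g ∈ N5 k) : tau k m g ∈ N5 k := by
  have h1 : N5 k ≤ (N5 k).comap (tau k m) := by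
    refine (Subgroup.closure_le _).2 ?_
    rintro _ ⟨r, hr, t, rfl⟩
    rw [SetLike.mem_coe, Subgroup.mem_comap, tau_xg m (S5_lt hr)]
    exact xg_mem_N5 (S5_Nr hr) _
  exact h1 hg

/-! ### Lang's theorem -/

/-- the root elements over `k[T]` -/
noncomputable def X5 (k : Type u) [Field k] : {r : Fin 48 // (r : ℕ) ∈ S5} → GL chevF4.Idx (Polynomial k) :=
  fun r => xP hD r.1.val Polynomial.X

theorem gam5 : Gam (X5 k) k = (N5 k).map (chevF4.group k).subtype := by
  apply le_antisymm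
  · unfold Gam
    rw [Subgroup.closure_le]
    rintro _ ⟨r, t, rfl⟩
    rw [X5, ev_xP, Polynomial.eval_X]
    exact ⟨xg r.1.val t, xg_mem_N5 r.2 t, coe_xg _ _⟩
  · rw [Subgroup.map_le_iff_le_comap]
    refine (Subgroup.closure_le _).2 ?_
    rintro _ ⟨r, hr, t, rfl⟩
    have h := ev_mem (X := X5 k) (R := k) ⟨⟨r, S5_lt hr⟩, hr⟩ t
    rw [X5, ev_xP, Polynomial.eval_X] at h
    show ((xg r t : ↥(chevF4.group k)) : GL chevF4.Idx k) ∈ Gam (X5 k) k
    rw [coe_xg]
    exact h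

variable [IsAlgClosed k]

/-- **Lang's theorem on the higher roots.** -/
theorem lang5 {a : ↥(chevF4.group k)} (ha : a ∈ N5 k) : ∃ z ∈ N5 k, a = z⁻¹ * tau k m z := by
  classical
  have : Fact (Nat.Prime 2) := ⟨Nat.prime_two⟩
  let E : ↥(Gam (X5 k) k) ≃* ↥(N5 k) := (MulEquiv.subgroupCongr gam5).trans
    ((N5 k).equivMapOfInjective _ (chevF4.group k).subtype_injective).symm
  have hE' : ∀ x, ((E.symm x : ↥(Gam (X5 k) k)) : GL chevF4.Idx k) = ((x : ↥(chevF4.group k)) : GL chevF4.Idx k) :=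
    fun _ => rfl
  have hE : ∀ x, (((E x : ↥(N5 k)) : ↥(chevF4.group k)) : GL chevF4.Idx k) = x := fun x => by
    rw [← hE', MulEquiv.symm_apply_apply]
  let F0 : ↥(N5 k) →* ↥(N5 k) := ((tau k m).comp (N5 k).subtype).codRestrict (N5 k) fun x => tau_N5 x.2
  have hF0 : ∀ x, ((F0 x : ↥(N5 k)) : ↥(chevF4.group k)) = tau k m x := fun _ => rfl
  let F : Monoid.End ↥(Gam (X5 k) k) := E.symm.toMonoidHom.comp (F0.comp E.toMonoidHom)
  have hFE : ∀ x, E (F x) = F0 (E x) := fun x => by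
    show E (E.symm (F0 (E x))) = _
    rw [MulEquiv.apply_symm_apply]
  have hX0 : ∀ i, ev (0 : k) (X5 k i) = 1 := by
    intro i
    rw [X5, ev_xP, Polynomial.eval_X, xG_zero]
  have hN : ∀ i : {r : Fin 48 // (r : ℕ) ∈ S5}, Nr i.1.val < 48 := fun i => Nr_lt i.1.2
  let nx : {r : Fin 48 // (r : ℕ) ∈ S5} → {r : Fin 48 // (r : ℕ) ∈ S5} := fun i => ⟨⟨Nr i.1.val, hN i⟩, S5_Nr i.2⟩
  have hF : ∀ (i : {r : Fin 48 // (r : ℕ) ∈ S5}) (a : k), (F ⟨ev a (X5 k i), ev_mem i a⟩ : GL chevF4.Idx k) =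
      ev a (ev (Polynomial.X ^ ex m i.1.val) (X5 k (nx i)) : GL chevF4.Idx (Polynomial k)) := by
    intro i a
    have h0 : ((E ⟨ev a (X5 k i), ev_mem i a⟩ : ↥(N5 k)) : ↥(chevF4.group k)) = xg i.1.val a := by
      apply Subtype.ext
      rw [hE]
      show ev a (X5 k i) = _
      rw [X5, ev_xP, Polynomial.eval_X, coe_xg]
    have h1 : (F ⟨ev a (X5 k i), ev_mem i a⟩ : GL chevF4.Idx k) = xG hD (Nr i.1.val) (a ^ ex m i.1.val) := by
      rw [← hE, hFE, hF0, h0, tau_xg m i.1.2, coe_xg]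
    rw [h1]
    have h2 := mp_ev (Polynomial.aeval a : Polynomial k →ₐ[k] k) (Polynomial.X ^ ex m i.1.val) (X5 k (nx i))
    have h3 : ev a (ev (Polynomial.X ^ ex m i.1.val : Polynomial k) (X5 k (nx i))) =
        ev (a ^ ex m i.1.val) (X5 k (nx i)) := by
      rw [show a ^ ex m i.1.val = Polynomial.aeval a (Polynomial.X ^ ex m i.1.val : Polynomial k) by simp]
      exact h2
    rw [h3, X5, ev_xP, Polynomial.eval_X]
  have hF4 : ∀ g : ↥(Gam (X5 k) k), (((F ^ 4) g : ↥(Gam (X5 k) k)) : GL chevF4.Idx k) =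
      1 * frob 2 ((2 * m + 1) * 2) (g : GL chevF4.Idx k) * 1⁻¹ := by
    intro g
    rw [one_mul, inv_one, mul_one, ← hE]
    have h1 : (E ((F ^ 4) g) : ↥(chevF4.group k)) = T k m 4 (E g) := by
      show ((E (F (F (F (F g)))) : ↥(N5 k)) : ↥(chevF4.group k)) = tau k m (tau k m (tau k m (tau k m (E g))))
      rw [hFE, hFE, hFE, hFE]
      rfl
    rw [h1, T_four]
    apply co_injective
    funext ij
    rw [co_frob, ← hE g]
    exact iterateFrobenius_def _ _ _
  obtain ⟨z, hz⟩ := lang (X := X5 k) 2 ((2 * m + 1) * 2) 4 (by omega) hX0 F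
    (Y := fun i => ev (Polynomial.X ^ ex m i.1.val) (X5 k (nx i))) (fun i => ev_mem _ _) hF 1 hF4
    (E.symm ⟨a, ha⟩)
  refine ⟨E z, (E z).2, ?_⟩
  have h1 := congrArg (fun x : ↥(N5 k) => (x : ↥(chevF4.group k))) (congrArg E hz)
  rw [map_mul, map_inv, hFE, MulEquiv.apply_symm_apply] at h1
  exact h1

end

end Cfsg.Agent.H305.PG
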