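import Cfsg.Agent.H305.PG.Model
import Cfsg.Agent.H992.E8X.Fix
import Cfsg.Agent.H927.SzMouf

/-!
# The homomorphism `SU₃(q) → F₄(k)^τ` and the torus (helper305)
-/

set_option autoImplicit false
set_option linter.unusedSectionVars false

namespace Cfsg.Agent.H305.PG

open Cfsg Cfsg.Lie Cfsg.Agent.ChevalleyStructure Cfsg.Agent.ChevalleyStructure.Elts
open Cfsg.Agent.H493.F4End Cfsg.Agent.H420.PG
open Cfsg.Agent.AGraded
open Matrix Matrix.SpecialLinearGroup
open Cfsg.Agent.H992.E8X.Su3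
open scoped commutatorElement

universe u v

/-- the roots of `A₂` -/
def rt : Fin 3 → Fin 3 → ℕ := ![![0, 31, 45], ![16, 0, 41], ![2, 6, 0]]

theorem rt_lt : ∀ i j : Fin 3, rt i j < 48 := by decide

theorem rt_comm : ∀ i j k l : Fin 3, i ≠ j → k ≠ l → j ≠ k → i ≠ l → Cm (rt k l) (rt i j) = true := by
  decide +kernel

theorem rt_br : ∀ i j l : Fin 3, i ≠ j → j ≠ l → i ≠ l → Br (rt j l) (rt i j) (rt i l) = true := by decide +kernel

theorem rt_two : ∀ i j : Fin 3, i ≠ j → it (rt i j) 2 = rt (2 - j) (2 - i) := by decide +kernel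

theorem rt_cross : ∀ i j k l : Fin 3, i ≠ j → k ≠ l → Cm (rt i j) (Nr (rt k l)) = true := by decide +kernel

section Pi
variable {k : Type u} [Field k] [CharP k 2] {E : Type v} [Field E] (f : E →+* k)

/-- the root elements of the subsystem -/
def x1 (i j : Fin 3) (a : E) : ↥(chevF4.group k) := xg (rt i j) (f a)

theorem steinRel : SteinRel (x1 f) where
  add i j _ a b := by
    show xg _ _ = xg _ _ * xg _ _
    rw [xg_add, map_add]
  comm i j l m hij hlm hjl him a b := (xg_comm (rt_comm i j l m hij hlm hjl him) (f b) (f a)).symm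
  br i j l hij hjl hil a b := by
    show ⁅xg _ _, xg _ _⁆ = xg _ _
    rw [xg_br (rt_br i j l hij hjl hil), map_mul]

theorem exists_pi [Finite E] : ∃ π : SpecialLinearGroup (Fin 3) E →* ↥(chevF4.group k),
    (∀ i j (hij : i ≠ j) a, π (transvection hij a) = xg (rt i j) (f a)) ∧
    π.range = Subgroup.closure (gens (x1 f)) ∧
      π.ker ≤ Subgroup.center (SpecialLinearGroup (Fin 3) E) := by
  obtain ⟨π, h1, h2, h3⟩ := exists_hom_core (steinRel f) (by rw [Fintype.card_fin])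
    fun _ _ hy hygen _ _ hφ _ _ => Cfsg.Agent.H135.KTwo.ker_eq_bot_fin hy (le_refl 2) hygen hφ
  refine ⟨π, h1, h2, h3 ⟨0, 1, by decide, 1, fun h => ?_⟩⟩
  have h4 := xg_eq_one (rt_lt 0 1) h
  rw [map_one] at h4
  exact one_ne_zero h4

end Pi

section L
open Subgroup
variable {k : Type u} [Field k] [CharP k 2] {m : ℕ}

variable (k) in
/-- the subgroup of the subsystem -/
def L : Subgroup ↥(chevF4.group k) := closure {g | ∃ i j, i ≠ j ∧ ∃ t, g = xg (rt i j) t}

theorem xg_mem_L {i j : Fin 3} (h : i ≠ j) (t : k) : xg (rt i j) t ∈ L k :=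
  subset_closure ⟨i, j, h, t, rfl⟩

theorem L_comm {x y : ↥(chevF4.group k)} (hx : x ∈ L k) (hy : y ∈ L k) : Commute x (tau k m y) := by
  have h1 : L k ≤ (centralizer (L k : Set ↥(chevF4.group k))).comap (tau k m) := by
    refine (closure_le _).2 ?_
    rintro _ ⟨i, j, hij, t, rfl⟩
    show tau k m (xg (rt i j) t) ∈ centralizer (L k : Set ↥(chevF4.group k))
    have h2 : L k ≤ centralizer {tau k m (xg (rt i j) t)} := by
      refine (closure_le _).2 ?_
      rintro _ ⟨i', j', hij', t', rfl⟩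
      rw [SetLike.mem_coe, mem_centralizer_singleton_iff, tau_xg m (rt_lt i j)]
      exact (xg_comm (rt_cross i' j' i j hij' hij) _ _).eq
    rw [mem_centralizer_iff]
    intro z hz
    exact mem_centralizer_singleton_iff.1 (h2 hz)
  exact (mem_centralizer_iff.1 (h1 hy)) x hx

variable {E : Type v} [Field E] {π : SpecialLinearGroup (Fin 3) E →* ↥(chevF4.group k)}

theorem P2_mul {x y : ↥(chevF4.group k)} (hx : x ∈ L k) (hy : y ∈ L k) :
    P2 k m (x * y) = P2 k m x * P2 k m y := by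
  unfold P2
  rw [map_mul]
  have h := L_comm (m := m) hy hx
  calc x * y * (tau k m x * tau k m y) = x * (y * tau k m x) * tau k m y := by group
    _ = x * (tau k m x * y) * tau k m y := by rw [h.eq]
    _ = _ := by group

variable (k m) in
/-- the diagonal homomorphism -/
noncomputable def io (hπ : ∀ A, π A ∈ L k) : SpecialLinearGroup (Fin 3) E →* ↥(chevF4.group k) where
  toFun A := P2 k m (π A)
  map_one' := by
    unfold P2
    simp
  map_mul' A B := by
    rw [map_mul, P2_mul (hπ A) (hπ B)]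

theorem two_sub_ne : ∀ {i j : Fin 3}, i ≠ j → 2 - j ≠ 2 - i := by decide

/-- `τ² π = π σ_J` -/
theorem T_two_pi (f : E →+* k) (h1 : ∀ i j (hij : i ≠ j) a, π (transvection hij a) = xg (rt i j) (f a))
    {σ : E →+* E} (hσ : ∀ x, σ x = x ^ 2 ^ (2 * m + 1)) (A : SpecialLinearGroup (Fin 3) E) :
    T k m 2 (π A) = π (stJ σ A) := by
  have key : ∀ (i j : Fin 3) (hij : i ≠ j) (c : E), T k m 2 (π (transvection hij c)) =
      π (stJ σ (transvection hij c)) := by
    intro i j hij c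
    rw [h1, stJ_transvection σ hij (two_sub_ne hij), h1, T_two_xg (rt_lt i j), rt_two i j hij]
    congr 1
    rw [map_neg, hσ, map_pow, CharTwo.neg_eq]
  refine Cfsg.Agent.LieClassical.SLGen.transvection_induction
    (fun A => T k m 2 (π A) = π (stJ σ A)) key ?_ A
  intro A B hA hB
  show T k m 2 (π (A * B)) = π (stJ σ (A * B))
  rw [map_mul, map_mul, map_mul, map_mul, hA, hB]

end L

section
variable {k : Type u} [Field k] [CharP k 2] {m : ℕ}
variable {E : Type v} [Field E] (f : E →+* k)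
variable {π : SpecialLinearGroup (Fin 3) E →* ↥(chevF4.group k)}

theorem pi_mem_L (h2 : π.range = Subgroup.closure (gens (x1 f))) (A : SpecialLinearGroup (Fin 3) E) : π A ∈ L k := by
  have h4 : π A ∈ Subgroup.closure (gens (x1 f)) := by rw [← h2]; exact ⟨A, rfl⟩
  have h5 : Subgroup.closure (gens (x1 f)) ≤ L k := by
    refine (Subgroup.closure_le _).2 ?_
    rintro _ ⟨i, j, hij, a, rfl⟩
    exact xg_mem_L hij _
  exact h5 h4

variable (h1 : ∀ i j (hij : i ≠ j) a, π (transvection hij a) = xg (rt i j) (f a))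
variable {σ : E →+* E} (hσ : ∀ x, σ x = x ^ 2 ^ (2 * m + 1)) (hπ : ∀ A, π A ∈ L k)

include h1 hσ in
theorem T_two_pi' (x : SUJ σ) : T k m 2 (π x.1) = π x.1 := by
  rw [T_two_pi f h1 hσ]
  exact congrArg π (mem_SUJ.1 x.2)

variable (m) in
/-- the homomorphism `SU₃ → F₄(k)^τ` -/
noncomputable def jj (hπ : ∀ A, π A ∈ L k) (h : ∀ x : SUJ σ, T k m 2 (π x.1) = π x.1) :
    ↥(SUJ σ) →* ↥(fixG k m) :=
  ((io k m hπ).comp (SUJ σ).subtype).codRestrict (fixG k m) fun x => tau_P2 (h x) (L_comm (hπ x.1) (hπ x.1))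

theorem coe_jj (h : ∀ x : SUJ σ, T k m 2 (π x.1) = π x.1) (x : SUJ σ) :
    (jj m hπ h x : ↥(chevF4.group k)) = P2 k m (π x.1) := rfl

include h1 in
theorem pi_Z {x : SUJ σ} (hx : x ∈ Z σ) : π x.1 = xg 45 (f (x.1.1 0 2)) := by
  have h3 := congrArg π (Z_param hx)
  rw [h1] at h3
  rw [h3]
  rfl

include h1 hσ in
theorem pi_U {x : SUJ σ} (hx : x ∈ U σ) : ∃ t : k,
    π x.1 = xg 31 (f (x.1.1 0 1)) * T k m 2 (xg 31 (f (x.1.1 0 1))) * xg 45 t := by
  have h3 := congrArg π (U_param hx)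
  rw [map_mul, map_mul, h1, h1, h1] at h3
  refine ⟨f (x.1.1 0 2 + x.1.1 0 1 * σ (x.1.1 0 1)), ?_⟩
  rw [h3, T_two_xg (by decide)]
  have e : f (-σ (x.1.1 0 1)) = f (x.1.1 0 1) ^ 2 ^ (2 * m + 1) := by
    rw [map_neg, hσ, map_pow, CharTwo.neg_eq]
  rw [e]
  rfl

/-! ### The torus -/

/-- the image of `diag(τ, 1, τ⁻¹)` -/
def hh (τ : k) : ↥(chevF4.group k) := xg 45 τ * xg 2 (-τ⁻¹) * xg 45 τ * xg 45 (-1) * xg 2 1 * xg 45 (-1)

include h1 in
theorem pi_diag {a : E} (ha : a ≠ 0) :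
    π (diag2n (show (0 : Fin 3) ≠ 2 by decide) a ha) = hh (f a) := by
  rw [Cfsg.Agent.LieClassical.SLGen.diag2n_decompose, map_mul, map_mul, map_mul, map_mul, map_mul, h1, h1, h1, h1]
  simp only [map_neg, map_inv₀, map_one]
  rfl

theorem coe_hh (τ : k) : ((hh τ : ↥(chevF4.group k)) : GL chevF4.Idx k) = hG hD 45 τ := by
  have h47 : chevF4.neg 45 = 2 := neg_eq 45 (by decide)
  rw [hG_def, nG_def, nG_def, h47]
  have e1 : (-(-1 : k)⁻¹ : k) = 1 := by norm_num
  rw [e1]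
  unfold hh
  simp only [Subgroup.coe_mul, coe_xg]
  group

theorem car_tab : RootCombGood.car chevF4 45 47 = 1 ∧ RootCombGood.car chevF4 45 40 = 1 := by
  constructor <;> decide +kernel

theorem hh_X {r : ℕ} (hr : r = 47 ∨ r = 40) {τ : k} (hτ : τ ≠ 0) (c : k) :
    hh τ * xg r c * (hh τ)⁻¹ = xg r (τ * c) := by
  apply Subtype.ext
  have h := Cfsg.Agent.H927.Sz.hG_conj_xG hD (show 45 < chevF4.nroots by decide) hτ
    (show r < chevF4.nroots by rcases hr with rfl | rfl <;> decide) c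
  have hc : RootCombGood.car chevF4 45 r = 1 := by
    rcases hr with rfl | rfl
    · exact car_tab.1
    · exact car_tab.2
  rw [hc, zpow_one] at h
  rw [Subgroup.coe_mul, Subgroup.coe_mul, Subgroup.coe_inv, coe_hh, coe_xg, coe_xg, h]

theorem tab40 : Nr 40 = 47 ∧ TwF4.Fix.isLong 40 = false := by decide +kernel

theorem tau_40 (t : k) : tau k m (xg 40 t) = xg 47 (t ^ (2 * 2 ^ m)) := by
  rw [tau_xg m (by decide), tab40.1, ex, tab40.2]
  rfl

/-- the action of `ι(diag(τ, 1, τ⁻¹))` on the root group of `47` -/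
theorem P2_hh [IsAlgClosed k] {τ : k} (hτ : τ ≠ 0) (t : k) :
    P2 k m (hh τ) * xg 47 t * (P2 k m (hh τ))⁻¹ = xg 47 (τ ^ (1 + 2 * 2 ^ m) * t) := by
  have e1 : tau k m (hh τ) * xg 47 t * (tau k m (hh τ))⁻¹ = xg 47 (τ ^ (2 * 2 ^ m) * t) := by
    obtain ⟨t', rfl⟩ := IsAlgClosed.exists_pow_nat_eq t (show 0 < 2 * 2 ^ m by positivity)
    rw [← tau_40, ← map_inv, ← map_mul, ← map_mul, hh_X (Or.inr rfl) hτ, tau_40, mul_pow]
  unfold P2
  calc hh τ * tau k m (hh τ) * xg 47 t * (hh τ * tau k m (hh τ))⁻¹ =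
      hh τ * (tau k m (hh τ) * xg 47 t * (tau k m (hh τ))⁻¹) * (hh τ)⁻¹ := by group
    _ = xg 47 (τ * (τ ^ (2 * 2 ^ m) * t)) := by rw [e1, hh_X (Or.inl rfl) hτ]
    _ = _ := by
        congr 1
        rw [pow_add, pow_one]
        ring

end

end Cfsg.Agent.H305.PG
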