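import Cfsg.Agent.H305.PG.Filt

/-!
# The data of the criterion in `F₄(k)^τ` (helper305)
-/

set_option autoImplicit false
set_option linter.unusedSectionVars false

namespace Cfsg.Agent.H305.PG

open Cfsg Cfsg.Lie Cfsg.Agent.ChevalleyStructure Cfsg.Agent.ChevalleyStructure.Elts
open Cfsg.Agent.H493.F4End Cfsg.Agent.H420.PG
open scoped commutatorElement

universe u v

/-! ### Tables -/

theorem ac_RT : AC 47 31 = true := by decide +kernel
theorem ac_RZ : AC 47 45 = true := by decide +kernel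
theorem ac_RN : AC 47 43 = true := by decide +kernel
theorem ac_RR : AC 47 47 = true := by decide +kernel
theorem ac_RQ : AC 47 26 = true := by decide +kernel
theorem ac_NZ : AC 43 45 = true := by decide +kernel
theorem ac_NN : AC 43 43 = true := by decide +kernel

theorem tab_R5 : (S5.all fun s => AC 47 s) = true := by decide +kernel
theorem tab_Z5 : (S5.all fun s => Cm 45 s) = true := by decide +kernel

theorem tab_TN : ∀ j : Fin 4, j ≠ 0 → Cm 31 (it 43 j) = true := by decide +kernel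
theorem tab_ZQ : ∀ j : Fin 4, j ≠ 0 → j ≠ 2 → Cm 45 (it 26 j) = true := by decide +kernel
theorem tab_sep : ∀ j : Fin 4, j ≠ 0 → Cm (it 47 j) 23 = true := by decide +kernel

theorem ok_TN : okB chevF4 43 31 [(47, 1, 1)] = true := by decide +kernel
theorem ok_ZQ : okB chevF4 26 45 [(47, 1, 1)] = true := by decide +kernel
theorem ok_sep : okB chevF4 23 47 [(46, 1, 1)] = true := by decide +kernel

theorem it26 : ∀ j : Fin 4, it 26 j ∈ S2 := by decide +kernel

section
variable {k : Type u} [Field k] [CharP k 2] {m : ℕ}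

theorem comm_R5 {n : ↥(chevF4.group k)} (hn : n ∈ N5 k) {i : ℕ} (hi : i < 4) (t : k) :
    Commute (T k m i (xg 47 t)) n := by
  have h1 : N5 k ≤ Subgroup.centralizer {T k m i (xg 47 t)} := by
    refine (Subgroup.closure_le _).2 ?_
    rintro _ ⟨s, hs, u, rfl⟩
    rw [SetLike.mem_coe, Subgroup.mem_centralizer_singleton_iff]
    have h2 := tab_R5
    rw [List.all_eq_true] at h2
    exact (ac (h2 s hs) hi (j := 0) (by decide) t u).symm.eq
  exact (show Commute n _ from Subgroup.mem_centralizer_singleton_iff.1 (h1 hn)).symm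

theorem comm_Z5 {n : ↥(chevF4.group k)} (hn : n ∈ N5 k) (t : k) : Commute (xg 45 t) n := by
  have h1 : N5 k ≤ Subgroup.centralizer {xg 45 t} := by
    refine (Subgroup.closure_le _).2 ?_
    rintro _ ⟨s, hs, u, rfl⟩
    rw [SetLike.mem_coe, Subgroup.mem_centralizer_singleton_iff]
    have h2 := tab_Z5
    rw [List.all_eq_true] at h2
    exact (xg_comm (h2 s hs) t u).symm.eq
  exact (show Commute n _ from Subgroup.mem_centralizer_singleton_iff.1 (h1 hn)).symm

variable {E : Type v} [Field E] (f : E →+* k) (hE : ∀ a : E, a ^ (2 ^ (2 * m + 1)) ^ 2 = a)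

variable (m) in
/-- half orbit products of the central root elements -/
noncomputable def Rd (d : E) : ↥(chevF4.group k) := xg 47 (f d) * T k m 2 (xg 47 (f d))

variable (m) in
/-- the elements of the centre of the radical -/
noncomputable def rr (d : E) : ↥(chevF4.group k) := P2 k m (Rd m f d)

variable (m) in
/-- the second shifting elements -/
noncomputable def y2 (d : E) : ↥(chevF4.group k) := P4 k m (xg 43 (f d))

variable (m) in
/-- the leading part of the first shifting elements -/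
noncomputable def y0 (d : E) : ↥(chevF4.group k) := P4 k m (xg 26 (f d))

include hE in
theorem T4_fix {r : ℕ} (hr : r < 48) (d : E) : T k m 4 (xg r (f d)) = xg r (f d) := by
  rw [T_four_xg hr, ← map_pow, hE]

/-- commutation with the conjugates of `R_d` -/
theorem Rd_comm {s : ℕ} (h : AC 47 s = true) {i j : ℕ} (hi : i < 2) (hj : j < 4) (d : E) (t : k) :
    Commute (T k m i (Rd m f d)) (T k m j (xg s t)) := by
  unfold Rd
  rw [map_mul, ← T_add]
  exact (ac h (by omega) hj _ _).mul_left (ac h (by omega) hj _ _)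

theorem Rd_comm_Rd {i j : ℕ} (hi : i < 2) (hj : j < 2) (d d' : E) :
    Commute (T k m i (Rd m f d)) (T k m j (Rd m f d')) := by
  conv => arg 2; rw [Rd, map_mul, ← T_add]
  exact (Rd_comm f ac_RR hi (by omega) d _).mul_right (Rd_comm f ac_RR hi (by omega) d _)

theorem Rd_add (d d' : E) : Rd m f (d + d') = Rd m f d * Rd m f d' := by
  unfold Rd
  rw [map_add, ← xg_add, map_mul]
  have h := ac (k := k) (m := m) ac_RR (i := 2) (j := 0) (by decide) (by decide) (f d) (f d')
  rw [T_zero] at h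
  calc xg 47 (f d) * xg 47 (f d') * (T k m 2 (xg 47 (f d)) * T k m 2 (xg 47 (f d')))
      = xg 47 (f d) * (xg 47 (f d') * T k m 2 (xg 47 (f d))) * T k m 2 (xg 47 (f d')) := by group
    _ = xg 47 (f d) * (T k m 2 (xg 47 (f d)) * xg 47 (f d')) * T k m 2 (xg 47 (f d')) := by rw [h.eq]
    _ = _ := by group

/-- the elements `rr` commute with `g` -/
theorem rr_comm {g : ↥(chevF4.group k)} {d : E} (h : ∀ i < 2, Commute (T k m i (Rd m f d)) g) :
    Commute (rr m f d) g := by
  unfold rr P2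
  have h0 := h 0 (by decide)
  rw [T_zero] at h0
  exact h0.mul_left (h 1 (by decide))

theorem rr_comm_X {s : ℕ} (h : AC 47 s = true) {j : ℕ} (hj : j < 4) (d : E) (t : k) :
    Commute (rr m f d) (T k m j (xg s t)) := rr_comm f fun _ hi => Rd_comm f h hi hj d t

theorem rr_comm_N5 {n : ↥(chevF4.group k)} (hn : n ∈ N5 k) (d : E) : Commute (rr m f d) n := by
  refine rr_comm f fun i hi => ?_
  unfold Rd
  rw [map_mul, ← T_add]
  exact (comm_R5 hn (by omega) _).mul_left (comm_R5 hn (by omega) _)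

theorem rr_add (d d' : E) : rr m f (d + d') = rr m f d * rr m f d' := by
  unfold rr P2
  rw [Rd_add, map_mul]
  have h := Rd_comm_Rd (k := k) (m := m) f (i := 1) (j := 0) (by decide) (by decide) d d'
  rw [T_zero, T_one] at h
  calc Rd m f d * Rd m f d' * (tau k m (Rd m f d) * tau k m (Rd m f d'))
      = Rd m f d * (Rd m f d' * tau k m (Rd m f d)) * tau k m (Rd m f d') := by group
    _ = Rd m f d * (tau k m (Rd m f d) * Rd m f d') * tau k m (Rd m f d') := by rw [h.eq]
    _ = _ := by group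

include hE in
theorem T2_Rd (d : E) : T k m 2 (Rd m f d) = Rd m f d := by
  unfold Rd
  rw [map_mul, ← T_add, T4_fix f hE (by decide)]
  have h := ac (k := k) (m := m) ac_RR (i := 2) (j := 0) (by decide) (by decide) (f d) (f d)
  rw [T_zero] at h
  exact h.eq

include hE in
theorem rr_fix (d : E) : tau k m (rr m f d) = rr m f d := by
  have h := Rd_comm_Rd (k := k) (m := m) f (i := 0) (j := 1) (by decide) (by decide) d d
  rw [T_zero, T_one] at h
  exact tau_P2 (T2_Rd f hE d) h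

include hE in
theorem y2_fix (d : E) : tau k m (y2 m f d) = y2 m f d := by
  have h : ∀ i < 4, Commute (xg 43 (f d)) (T k m i (xg 43 (f d))) := fun i hi => by
    have := ac (k := k) (m := m) ac_NN (i := 0) (j := i) (by decide) hi (f d) (f d)
    rwa [T_zero] at this
  exact tau_P4 (T4_fix f hE (by decide) d) (h 1 (by decide)) (h 2 (by decide)) (h 3 (by decide))

/-- the basic shift by `y₂(d)` -/
theorem y2_g (a d : E) : (y2 m f d)⁻¹ * xg 31 (f a) * y2 m f d = xg 31 (f a) * xg 47 (f (a * d)) := by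
  have h0 : (xg 43 (f d))⁻¹ * xg 31 (f a) * xg 43 (f d) = xg 31 (f a) * xg 47 (f (a * d)) := by
    rw [xg_conj ok_TN, map_mul]
  have hT : ∀ i < 4, i ≠ 0 → Commute (xg 31 (f a)) (T k m i (xg 43 (f d))) := fun i hi hi0 => by
    have := T_comm (k := k) (m := m) (r := 31) (s := 43) (by decide) (by decide) (i := 0) (j := i)
      (tab_TN ⟨i, hi⟩ (fun h => hi0 (congrArg Fin.val h))) (f a) (f d)
    rwa [T_zero] at this
  have hR : ∀ i < 4, Commute (xg 47 (f (a * d))) (T k m i (xg 43 (f d))) := fun i hi => by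
    have := ac (k := k) (m := m) ac_RN (i := 0) (by decide) hi (f (a * d)) (f d)
    rwa [T_zero] at this
  have hc : ∀ i < 4, i ≠ 0 → Commute (xg 31 (f a) * xg 47 (f (a * d))) (T k m i (xg 43 (f d))) :=
    fun i hi hi0 => (hT i hi hi0).mul_left (hR i hi)
  have hB : Commute (xg 31 (f a) * xg 47 (f (a * d)))
      (T k m 1 (xg 43 (f d)) * T k m 2 (xg 43 (f d)) * T k m 3 (xg 43 (f d))) :=
    ((hc 1 (by decide) (by decide)).mul_right (hc 2 (by decide) (by decide))).mul_right (hc 3 (by decide) (by decide))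
  unfold y2 P4
  calc _ = (T k m 1 (xg 43 (f d)) * T k m 2 (xg 43 (f d)) * T k m 3 (xg 43 (f d)))⁻¹ *
        ((xg 43 (f d))⁻¹ * xg 31 (f a) * xg 43 (f d)) *
        (T k m 1 (xg 43 (f d)) * T k m 2 (xg 43 (f d)) * T k m 3 (xg 43 (f d))) := by group
    _ = _ := by rw [h0, mul_assoc, hB.eq, inv_mul_cancel_left]

theorem y2_z (t : k) (d : E) : Commute (xg 45 t) (y2 m f d) := by
  have h : ∀ i < 4, Commute (xg 45 t) (T k m i (xg 43 (f d))) := fun i hi => by
    have := (ac (k := k) (m := m) ac_NZ (i := i) (j := 0) hi (by decide) (f d) t).symm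
    rwa [T_zero] at this
  unfold y2 P4
  have h0 := h 0 (by decide)
  rw [T_zero] at h0
  exact ((h0.mul_right (h 1 (by decide))).mul_right (h 2 (by decide))).mul_right (h 3 (by decide))

include hE in
/-- **the shift by `y₂`** -/
theorem y2_shift (a d : E) (t : k) :
    (y2 m f d)⁻¹ * P2 k m (xg 31 (f a) * T k m 2 (xg 31 (f a)) * xg 45 t) * y2 m f d =
      P2 k m (xg 31 (f a) * T k m 2 (xg 31 (f a)) * xg 45 t) * rr m f (a * d) := by
  have hfix := y2_fix (k := k) (m := m) f hE d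
  have h1 := y2_g (k := k) (m := m) f a d
  have h2 : (y2 m f d)⁻¹ * T k m 2 (xg 31 (f a)) * y2 m f d = T k m 2 (xg 31 (f a)) * T k m 2 (xg 47 (f (a * d))) := by
    have h3 := congrArg (T k m 2) h1
    rw [map_mul, map_mul, map_mul, map_inv, T_fix hfix] at h3
    exact h3
  have h3 : (y2 m f d)⁻¹ * xg 45 t * y2 m f d = xg 45 t := by
    rw [mul_assoc, (y2_z (m := m) f t d).eq, inv_mul_cancel_left]
  have c1 : Commute (xg 47 (f (a * d))) (T k m 2 (xg 31 (f a))) := by
    have := ac (k := k) (m := m) ac_RT (i := 0) (j := 2) (by decide) (by decide) (f (a * d)) (f a)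
    rwa [T_zero] at this
  have c2 : Commute (xg 47 (f (a * d))) (xg 45 t) := by
    have := ac (k := k) (m := m) ac_RZ (i := 0) (j := 0) (by decide) (by decide) (f (a * d)) t
    rwa [T_zero, T_zero] at this
  have c3 : Commute (T k m 2 (xg 47 (f (a * d)))) (xg 45 t) := by
    have := ac (k := k) (m := m) ac_RZ (i := 2) (j := 0) (by decide) (by decide) (f (a * d)) t
    rwa [T_zero] at this
  refine shift2 hfix ?_ ?_
  · unfold Rd
    calc (y2 m f d)⁻¹ * (xg 31 (f a) * T k m 2 (xg 31 (f a)) * xg 45 t) * y2 m f d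
        = ((y2 m f d)⁻¹ * xg 31 (f a) * y2 m f d) * ((y2 m f d)⁻¹ * T k m 2 (xg 31 (f a)) * y2 m f d) *
            ((y2 m f d)⁻¹ * xg 45 t * y2 m f d) := by group
      _ = (xg 31 (f a) * xg 47 (f (a * d))) * (T k m 2 (xg 31 (f a)) * T k m 2 (xg 47 (f (a * d)))) *
            xg 45 t := by rw [h1, h2, h3]
      _ = xg 31 (f a) * (xg 47 (f (a * d)) * T k m 2 (xg 31 (f a))) *
            (T k m 2 (xg 47 (f (a * d))) * xg 45 t) := by group
      _ = xg 31 (f a) * T k m 2 (xg 31 (f a)) * (xg 47 (f (a * d)) * xg 45 t) *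
            T k m 2 (xg 47 (f (a * d))) := by rw [c1.eq, c3.eq]; group
      _ = _ := by rw [c2.eq]; group
  · rw [map_mul, map_mul, ← T_one, ← T_one, ← T_one, ← T_add]
    have h0 : ∀ {s j : ℕ}, AC 47 s = true → j < 4 → ∀ t : k, Commute (Rd m f (a * d)) (T k m j (xg s t)) :=
      fun h hj t => by
        have := Rd_comm (k := k) (m := m) f h (i := 0) (by decide) hj (a * d) t
        rwa [T_zero] at this
    exact ((h0 ac_RT (by decide) _).mul_right (h0 ac_RT (by decide) _)).mul_right (h0 ac_RZ (by decide) _)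

include hE in
theorem y2_shift_z (d : E) (t : k) : (y2 m f d)⁻¹ * P2 k m (xg 45 t) * y2 m f d = P2 k m (xg 45 t) := by
  refine fix2 (y2_fix f hE d) ?_
  rw [mul_assoc, (y2_z (m := m) f t d).eq, inv_mul_cancel_left]

/-! ### `y₁` -/

include hE in
theorem y0_mem (d : E) : (y0 m f d)⁻¹ * tau k m (y0 m f d) ∈ N5 k := by
  set x : ℕ → ↥(chevF4.group k) := fun i => T k m i (xg 26 (f d)) with hx
  have h4 : x 4 = x 0 := T4_fix f hE (by decide) d
  have e0 : y0 m f d = x 0 * x 1 * x 2 * x 3 := rfl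
  have hs : ∀ i, tau k m (x i) = x (i + 1) := fun i => rfl
  have e1 : tau k m (y0 m f d) = x 1 * x 2 * x 3 * x 0 := by
    rw [e0, map_mul, map_mul, map_mul, hs, hs, hs, hs, h4]
  have key : ∀ i < 4, ∃ n ∈ N5 k, (x 0)⁻¹ * x i * x 0 = x i * n := by
    intro i hi
    have h1 : x i = xg (it 26 i) (f d ^ pw m 26 i) := T_xg (by decide) i _
    rw [h1]
    exact conj_okN (okN_of (by decide) (List.mem_append_left _ (it26 ⟨i, hi⟩))) _ _
  have cj : ∀ i < 4, ∀ n ∈ N5 k, (x i)⁻¹ * n * x i ∈ N5 k := by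
    intro i hi n hn
    have h1 : x i = xg (it 26 i) (f d ^ pw m 26 i) := T_xg (by decide) i _
    rw [h1]
    exact conj_N5 (List.mem_append_left _ (it26 ⟨i, hi⟩)) _ hn
  obtain ⟨n1, hn1, k1⟩ := key 1 (by decide)
  obtain ⟨n2, hn2, k2⟩ := key 2 (by decide)
  obtain ⟨n3, hn3, k3⟩ := key 3 (by decide)
  rw [e1, e0]
  have e2 : (x 0 * x 1 * x 2 * x 3)⁻¹ * (x 1 * x 2 * x 3 * x 0) =
      ((x 3)⁻¹ * ((x 2)⁻¹ * n1 * x 2) * x 3) * ((x 3)⁻¹ * n2 * x 3) * n3 := by
    calc (x 0 * x 1 * x 2 * x 3)⁻¹ * (x 1 * x 2 * x 3 * x 0) =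
        (x 3)⁻¹ * (x 2)⁻¹ * (x 1)⁻¹ * ((x 0)⁻¹ * x 1 * x 0) * ((x 0)⁻¹ * x 2 * x 0) * ((x 0)⁻¹ * x 3 * x 0) := by
          group
      _ = _ := by rw [k1, k2, k3]; group
  rw [e2]
  exact mul_mem (mul_mem (cj 3 (by decide) _ (cj 2 (by decide) _ hn1)) (cj 3 (by decide) _ hn2)) hn3

include hE in
theorem exists_y1 [IsAlgClosed k] (d : E) : ∃ y : ↥(chevF4.group k), tau k m y = y ∧ ∃ c ∈ N5 k, y = y0 m f d * c := by
  obtain ⟨z, hz, e⟩ := lang5 (m := m) (y0_mem (k := k) (m := m) f hE d)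
  have h1 : tau k m (y0 m f d) = y0 m f d * (z⁻¹ * tau k m z) := by rw [← e]; group
  refine ⟨y0 m f d * z⁻¹, ?_, z⁻¹, inv_mem hz, rfl⟩
  rw [map_mul, h1, map_inv]
  group

/-- **the shift by `y₁`** -/
theorem y1_shift {y : ↥(chevF4.group k)} (hy : tau k m y = y) {d : E} {c : ↥(chevF4.group k)} (hc : c ∈ N5 k)
    (e : y = y0 m f d * c) (b : E) (hb : T k m 2 (xg 45 (f b)) = xg 45 (f b)) :
    y⁻¹ * P2 k m (xg 45 (f b)) * y = P2 k m (xg 45 (f b)) * rr m f (b * d) := by
  set z := (xg 45 (f b) : ↥(chevF4.group k)) with hz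
  set R := (xg 47 (f (b * d)) : ↥(chevF4.group k)) with hR
  have h0 : (xg 26 (f d))⁻¹ * z * xg 26 (f d) = z * R := by
    rw [hz, xg_conj ok_ZQ, hR, map_mul]
  have h2 : (T k m 2 (xg 26 (f d)))⁻¹ * z * T k m 2 (xg 26 (f d)) = z * T k m 2 R := by
    have h1 := congrArg (T k m 2) h0
    rwa [map_mul, map_mul, map_mul, map_inv, hb] at h1
  have cz : ∀ i < 4, i ≠ 0 → i ≠ 2 → Commute z (T k m i (xg 26 (f d))) := fun i hi hi0 hi2 => by
    have := T_comm (k := k) (m := m) (r := 45) (s := 26) (by decide) (by decide) (i := 0) (j := i)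
      (tab_ZQ ⟨i, hi⟩ (fun h => hi0 (congrArg Fin.val h)) (fun h => hi2 (congrArg Fin.val h))) (f b) (f d)
    rwa [T_zero] at this
  have cR : ∀ j < 4, ∀ i < 4, Commute (T k m j R) (T k m i (xg 26 (f d))) := fun j hj i hi =>
    ac ac_RQ hj hi (f (b * d)) (f d)
  have cR0 : ∀ i < 4, Commute R (T k m i (xg 26 (f d))) := fun i hi => by
    have := cR 0 (by decide) i hi
    rwa [T_zero] at this
  have cRR : Commute R (T k m 2 R) := by
    have := ac (k := k) (m := m) ac_RR (i := 0) (j := 2) (by decide) (by decide) (f (b * d)) (f (b * d))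
    rwa [T_zero] at this
  have cc : Commute (z * (R * T k m 2 R)) c := by
    refine (comm_Z5 hc _).mul_left (Commute.mul_left ?_ (comm_R5 hc (by decide) _))
    have := comm_R5 (m := m) hc (i := 0) (by decide) (f (b * d))
    rwa [T_zero] at this
  refine shift2 hy ?_ ?_
  · show y⁻¹ * z * y = z * (R * T k m 2 R)
    rw [e]
    unfold y0 P4
    set x0 := (xg 26 (f d) : ↥(chevF4.group k)) with hx0
    have a1 : Commute (z * R) (T k m 1 x0) := (cz 1 (by decide) (by decide) (by decide)).mul_left (cR0 1 (by decide))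
    have a3 : Commute (z * (R * T k m 2 R)) (T k m 3 x0) :=
      (cz 3 (by decide) (by decide) (by decide)).mul_left
        ((cR0 3 (by decide)).mul_left (cR 2 (by decide) 3 (by decide)))
    calc (x0 * T k m 1 x0 * T k m 2 x0 * T k m 3 x0 * c)⁻¹ * z * (x0 * T k m 1 x0 * T k m 2 x0 * T k m 3 x0 * c)
        = c⁻¹ * (T k m 3 x0)⁻¹ * (T k m 2 x0)⁻¹ * (T k m 1 x0)⁻¹ * (x0⁻¹ * z * x0) * T k m 1 x0 * T k m 2 x0 *
          T k m 3 x0 * c := by group
      _ = c⁻¹ * (T k m 3 x0)⁻¹ * (T k m 2 x0)⁻¹ * (T k m 1 x0)⁻¹ * ((z * R) * T k m 1 x0) * T k m 2 x0 *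
          T k m 3 x0 * c := by rw [h0]; group
      _ = c⁻¹ * (T k m 3 x0)⁻¹ * (T k m 2 x0)⁻¹ * z * (R * T k m 2 x0) * T k m 3 x0 * c := by rw [a1.eq]; group
      _ = c⁻¹ * (T k m 3 x0)⁻¹ * ((T k m 2 x0)⁻¹ * z * T k m 2 x0) * R * T k m 3 x0 * c := by
          rw [(cR0 2 (by decide)).eq]; group
      _ = c⁻¹ * (T k m 3 x0)⁻¹ * ((z * (T k m 2 R * R)) * T k m 3 x0) * c := by rw [h2]; group
      _ = c⁻¹ * ((z * (R * T k m 2 R)) * c) := by rw [← cRR.eq, a3.eq]; group
      _ = _ := by rw [cc.eq, inv_mul_cancel_left]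
  · have := Rd_comm (k := k) (m := m) f ac_RZ (i := 0) (j := 1) (by decide) (by decide) (b * d) (f b)
    rwa [T_zero, T_one] at this

theorem rr_y1 {y : ↥(chevF4.group k)} {d : E} {c : ↥(chevF4.group k)} (hc : c ∈ N5 k) (e : y = y0 m f d * c) (i : E) :
    Commute (rr m f i) y := by
  rw [e]
  refine Commute.mul_right ?_ (rr_comm_N5 f hc i)
  unfold y0 P4
  have h : ∀ j < 4, Commute (rr m f i) (T k m j (xg 26 (f d))) := fun j hj => rr_comm_X f ac_RQ hj i (f d)
  have h0 := h 0 (by decide)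
  rw [T_zero] at h0
  exact ((h0.mul_right (h 1 (by decide))).mul_right (h 2 (by decide))).mul_right (h 3 (by decide))

theorem rr_y2 (i d : E) : Commute (rr m f i) (y2 m f d) := by
  unfold y2 P4
  have h : ∀ j < 4, Commute (rr m f i) (T k m j (xg 43 (f d))) := fun j hj => rr_comm_X f ac_RN hj i (f d)
  have h0 := h 0 (by decide)
  rw [T_zero] at h0
  exact ((h0.mul_right (h 1 (by decide))).mul_right (h 2 (by decide))).mul_right (h 3 (by decide))

theorem rr_w (i : E) (a : k) (t : k) :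
    Commute (rr m f i) (P2 k m (xg 31 a * T k m 2 (xg 31 a) * xg 45 t)) := by
  have hT : ∀ j < 4, Commute (rr m f i) (T k m j (xg 31 a)) := fun j hj => rr_comm_X f ac_RT hj i a
  have hZ : ∀ j < 4, Commute (rr m f i) (T k m j (xg 45 t)) := fun j hj => rr_comm_X f ac_RZ hj i t
  have hT0 := hT 0 (by decide)
  have hZ0 := hZ 0 (by decide)
  rw [T_zero] at hT0 hZ0
  unfold P2
  rw [map_mul, map_mul, ← T_one, ← T_one, ← T_one, ← T_add]
  exact ((hT0.mul_right (hT 2 (by decide))).mul_right hZ0).mul_right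
    (((hT 1 (by decide)).mul_right (hT 3 (by decide))).mul_right (hZ 1 (by decide)))

/-- conjugation of `rr` by a `τ`-fixed element -/
theorem rr_conj {g : ↥(chevF4.group k)} (hg : tau k m g = g) {l : E}
    (h : ∀ d : E, g * xg 47 (f d) * g⁻¹ = xg 47 (f (l * d))) (d : E) :
    g * rr m f d * g⁻¹ = rr m f (l * d) := by
  have hR : g * Rd m f d * g⁻¹ = Rd m f (l * d) := by
    unfold Rd
    have h4 : g * T k m 2 (xg 47 (f d)) * g⁻¹ = T k m 2 (xg 47 (f (l * d))) := by
      have h1 := congrArg (T k m 2) (h d)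
      rwa [map_mul, map_mul, map_inv, T_fix hg] at h1
    calc g * (xg 47 (f d) * T k m 2 (xg 47 (f d))) * g⁻¹ =
          (g * xg 47 (f d) * g⁻¹) * (g * T k m 2 (xg 47 (f d)) * g⁻¹) := by group
      _ = _ := by rw [h, h4]
  have hR1 : g * tau k m (Rd m f d) * g⁻¹ = tau k m (Rd m f (l * d)) := by
    have h1 := congrArg (tau k m) hR
    rwa [map_mul, map_mul, map_inv, hg] at h1
  unfold rr P2
  calc g * (Rd m f d * tau k m (Rd m f d)) * g⁻¹ = (g * Rd m f d * g⁻¹) * (g * tau k m (Rd m f d) * g⁻¹) := by group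
    _ = _ := by rw [hR, hR1]

/-- `rr d ≠ 1` -/
theorem rr_ne {d : E} (h : rr m f d = 1) : d = 0 := by
  have hc : ∀ i < 4, i ≠ 0 → Commute (T k m i (xg 47 (f d))) (xg 23 1) := by
    intro i hi hi0
    have := T_comm (k := k) (m := m) (r := 47) (s := 23) (by decide) (by decide) (i := i) (j := 0)
      (tab_sep ⟨i, hi⟩ (fun h => hi0 (congrArg Fin.val h))) (f d) 1
    rwa [T_zero] at this
  have h1 : rr m f d = xg 47 (f d) * (T k m 2 (xg 47 (f d)) * (T k m 1 (xg 47 (f d)) * T k m 3 (xg 47 (f d)))) := by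
    unfold rr P2 Rd
    rw [map_mul, ← T_one, ← T_one, ← T_add, mul_assoc]
  rw [h] at h1
  have h3 : Commute (xg 47 (f d)) (xg 23 (1 : k)) := by
    rw [eq_inv_of_mul_eq_one_left h1.symm]
    exact ((hc 2 (by decide) (by decide)).mul_left ((hc 1 (by decide) (by decide)).mul_left
      (hc 3 (by decide) (by decide)))).inv_left
  have h4 := xg_conj ok_sep (1 : k) (f d)
  rw [mul_assoc, h3.eq, inv_mul_cancel_left] at h4
  have h5 : xg 46 (f d * 1) = (1 : ↥(chevF4.group k)) := mul_eq_left.1 h4.symm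
  have h6 := xg_eq_one (by decide) h5
  rw [mul_one] at h6
  exact (map_eq_zero f).1 h6

end

end Cfsg.Agent.H305.PG
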