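import Cfsg.Agent.H493.F4Lang
import Cfsg.Agent.H493.F4Fix
import Cfsg.Agent.H420.PG.CharTwo
import Mathlib

/-!
# `F₄(k)` in characteristic 2: the endomorphism `τ = n ∘ ste` (helper305)

`τ (x_r(t)) = x_{N r}(t ^ e_r)`, `N = s_24 ∘ bar`, `N⁴ = 1`.
-/

set_option autoImplicit false
set_option linter.unusedSectionVars false

namespace Cfsg.Agent.H305.PG

open Cfsg Cfsg.Lie Cfsg.Agent.ChevalleyStructure Cfsg.Agent.ChevalleyStructure.Elts
open Cfsg.Agent.ChevalleyStructure.TwF4 Cfsg.Agent.ChevalleyStructure.TwF4.Fix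
open Cfsg.Agent.ChevalleyStructure.TwF4.Rel (bar refl refl_lt)
open Cfsg.Agent.H493.F4End Cfsg.Agent.H420.PG
open scoped commutatorElement

universe u v

/-! ### Tables -/

/-- commuting root elements -/
def Cm (r s : ℕ) : Bool := (decide (r < 48) && (s == r)) || okB chevF4 r s []

/-- a commutator -/
def Br (r s q : ℕ) : Bool := okB chevF4 r s [(q, 1, 1)] && (Cm q r && Cm q s)

/-- the action of `τ` on the roots -/
def Nr (r : ℕ) : ℕ := refl 3 (bar r)

/-- iterates -/
def it (r : ℕ) : ℕ → ℕ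
  | 0 => r
  | i + 1 => Nr (it r i)

theorem Nr_tab : ((List.range 48).all fun r => decide (Nr r < 48) && (decide (isLong (Nr r) = !isLong r) &&
    decide (it r 4 = r))) = true := by decide +kernel

theorem Nr_lt {r : ℕ} (hr : r < 48) : Nr r < 48 := by
  have h := Nr_tab
  rw [List.all_eq_true] at h
  have h1 := h r (List.mem_range.2 hr)
  simp only [Bool.and_eq_true, decide_eq_true_eq] at h1
  exact h1.1

theorem isLong_Nr {r : ℕ} (hr : r < 48) : isLong (Nr r) = !isLong r := by
  have h := Nr_tab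
  rw [List.all_eq_true] at h
  have h1 := h r (List.mem_range.2 hr)
  simp only [Bool.and_eq_true, decide_eq_true_eq] at h1
  exact h1.2.1

theorem it_four {r : ℕ} (hr : r < 48) : it r 4 = r := by
  have h := Nr_tab
  rw [List.all_eq_true] at h
  have h1 := h r (List.mem_range.2 hr)
  simp only [Bool.and_eq_true, decide_eq_true_eq] at h1
  exact h1.2.2

theorem it_lt {r : ℕ} (hr : r < 48) : ∀ i, it r i < 48
  | 0 => hr
  | i + 1 => Nr_lt (it_lt hr i)

/-- exponents -/
def pw (m r : ℕ) : ℕ → ℕ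
  | 0 => 1
  | i + 1 => pw m r i * ex m (it r i)

theorem ex_mul {m r : ℕ} (hr : r < 48) : ex m r * ex m (Nr r) = 2 ^ (2 * m + 1) := by
  unfold ex
  rw [isLong_Nr hr]
  cases isLong r
  · simp only [Bool.not_false, if_true, Bool.false_eq_true, if_false]
    ring
  · simp only [Bool.not_true, if_true, Bool.false_eq_true, if_false]
    ring

theorem pw_two {m r : ℕ} (hr : r < 48) : pw m r 2 = 2 ^ (2 * m + 1) := by
  show 1 * ex m r * ex m (Nr r) = _
  rw [one_mul, ex_mul hr]

theorem pw_four {m r : ℕ} (hr : r < 48) : pw m r 4 = (2 ^ (2 * m + 1)) ^ 2 := by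
  show 1 * ex m r * ex m (Nr r) * ex m (it r 2) * ex m (Nr (it r 2)) = _
  rw [one_mul, ex_mul hr, mul_assoc, ex_mul (it_lt hr 2), pow_two]

section
variable {k : Type u} [Field k] [CharP k 2]

theorem coe_xg (r : ℕ) (t : k) : ((xg r t : ↥(chevF4.group k)) : GL chevF4.Idx k) = xG hD r t := X_eq r t

theorem xg_add (r : ℕ) (t u : k) : xg r t * xg r u = xg r (t + u) := by
  apply Subtype.ext
  rw [Subgroup.coe_mul, coe_xg, coe_xg, coe_xg, xG_add]

theorem xg_zero (r : ℕ) : xg r (0 : k) = 1 := by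
  have := xg_add (k := k) r 0 0
  rw [add_zero] at this
  exact mul_eq_left.1 this

theorem xg_inv (r : ℕ) (t : k) : (xg r t)⁻¹ = xg r t := by
  rw [inv_eq_iff_mul_eq_one, xg_add, CharTwo.add_self_eq_zero, xg_zero]

theorem xg_eq_one {r : ℕ} (hr : r < 48) {t : k} (h : xg r t = 1) : t = 0 :=
  (xG_eq_one_iff hD hr t).1 (by rw [← coe_xg, h]; rfl)

/-- relations -/
theorem xg_rel {r s : ℕ} {w : List (ℕ × ℕ × ℕ)} (h : okB chevF4 r s w = true) (t u : k) :
    xg s u * xg r t = xg r t * xg s u * (w.map fun c => xg c.1 (t ^ c.2.1 * u ^ c.2.2)).prod := by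
  apply Subtype.ext
  have h1 := rel (F := k) hD h t u
  rw [Subgroup.coe_mul, Subgroup.coe_mul, Subgroup.coe_mul, coe_xg, coe_xg, h1]
  congr 1
  rw [← Subgroup.coe_subtype, map_list_prod, List.map_map]
  congr 1
  refine List.map_congr_left fun c _ => ?_
  exact (coe_xg _ _).symm

theorem xg_comm {r s : ℕ} (h : Cm r s = true) (t u : k) : Commute (xg r t) (xg s u) := by
  unfold Cm at h
  rw [Bool.or_eq_true, Bool.and_eq_true, beq_iff_eq] at h
  rcases h with ⟨-, h⟩ | h
  · subst h
    show _ * _ = _ * _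
    rw [xg_add, xg_add, add_comm]
  · have h1 := xg_rel h t u
    rw [List.map_nil, List.prod_nil, mul_one] at h1
    exact h1.symm

theorem br_group {G : Type*} [Group G] {g h W : G} (h1 : g * h = h * g * W) (h2 : g * W = W * g) (h3 : h * W = W * h) :
    ⁅g, h⁆ = W := by
  rw [commutatorElement_def, h1, mul_assoc (h * g) W, mul_assoc h g, ← mul_assoc g W, h2]
  rw [show h * (W * g * g⁻¹) * h⁻¹ = h * W * h⁻¹ by group, h3]
  group

theorem xg_br {r s q : ℕ} (h : Br r s q = true) (t u : k) : ⁅xg s u, xg r t⁆ = xg q (u * t) := by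
  unfold Br at h
  rw [Bool.and_eq_true, Bool.and_eq_true] at h
  obtain ⟨h1, h2, h3⟩ := h
  apply br_group
  · have h4 := xg_rel h1 t u
    rw [List.map_cons, List.map_nil, List.prod_cons, List.prod_nil, mul_one] at h4
    simp only [pow_one] at h4
    rw [h4, mul_comm t u]
  · exact (xg_comm h3 _ _).symm.eq
  · exact (xg_comm h2 _ _).symm.eq

/-- conjugation -/
theorem xg_conj {r s q : ℕ} (h : okB chevF4 r s [(q, 1, 1)] = true) (t u : k) :
    (xg r t)⁻¹ * xg s u * xg r t = xg s u * xg q (u * t) := by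
  have h4 := xg_rel h t u
  rw [List.map_cons, List.map_nil, List.prod_cons, List.prod_nil, mul_one] at h4
  simp only [pow_one] at h4
  rw [mul_assoc, h4, mul_comm t u]
  group

/-! ### `τ` -/

variable (k) in
/-- the reflection -/
def n24 : ↥(chevF4.group k) := xg 24 1 * xg 23 1 * xg 24 1

theorem n24_conj {r : ℕ} (hr : r < 48) (t : k) : n24 k * xg r t * (n24 k)⁻¹ = xg (refl 3 r) t := by
  apply Subtype.ext
  exact Rel.nG_conj (K := k) 3 r (by decide) hr t

variable (k) in
/-- the endomorphism `τ` -/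
noncomputable def tau (m : ℕ) : ↥(chevF4.group k) →* ↥(chevF4.group k) :=
  (MulAut.conj (n24 k)).toMonoidHom.comp (ste k m)

theorem tau_apply (m : ℕ) (g : ↥(chevF4.group k)) : tau k m g = n24 k * ste k m g * (n24 k)⁻¹ := rfl

theorem tau_xg (m : ℕ) {r : ℕ} (hr : r < 48) (t : k) : tau k m (xg r t) = xg (Nr r) (t ^ ex m r) := by
  rw [tau_apply, ste_xg m hr, n24_conj (bar_lt r hr), lm_eq]
  rfl

variable (k) in
/-- iterates of `τ` -/
noncomputable def T (m : ℕ) : ℕ → (↥(chevF4.group k) →* ↥(chevF4.group k))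
  | 0 => MonoidHom.id _
  | i + 1 => (tau k m).comp (T m i)

variable {m : ℕ}

theorem T_zero (g : ↥(chevF4.group k)) : T k m 0 g = g := rfl

theorem T_succ (i : ℕ) (g : ↥(chevF4.group k)) : T k m (i + 1) g = tau k m (T k m i g) := rfl

theorem T_one (g : ↥(chevF4.group k)) : T k m 1 g = tau k m g := rfl

theorem T_add (i j : ℕ) (g : ↥(chevF4.group k)) : T k m (i + j) g = T k m i (T k m j g) := by
  induction i with
  | zero => rw [zero_add]; rfl
  | succ i ih => rw [Nat.succ_add, T_succ, ih]; rfl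

theorem T_fix {g : ↥(chevF4.group k)} (h : tau k m g = g) (i : ℕ) : T k m i g = g := by
  induction i with
  | zero => rfl
  | succ i ih => rw [T_succ, ih, h]

theorem T_xg {r : ℕ} (hr : r < 48) (i : ℕ) (t : k) : T k m i (xg r t) = xg (it r i) (t ^ pw m r i) := by
  induction i with
  | zero =>
    show xg r t = xg r (t ^ 1)
    rw [pow_one]
  | succ i ih =>
    rw [T_succ, ih, tau_xg m (it_lt hr i), ← pow_mul]
    rfl

theorem T_two_xg {r : ℕ} (hr : r < 48) (t : k) : T k m 2 (xg r t) = xg (it r 2) (t ^ 2 ^ (2 * m + 1)) := by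
  rw [T_xg hr, pw_two hr]

theorem T_four_xg {r : ℕ} (hr : r < 48) (t : k) : T k m 4 (xg r t) = xg r (t ^ (2 ^ (2 * m + 1)) ^ 2) := by
  rw [T_xg hr, pw_four hr, it_four hr]

/-- `τ⁴` is the entrywise power -/
theorem T_four (g : ↥(chevF4.group k)) :
    T k m 4 g = Cfsg.Agent.GpExc.Field.emb hD (iterateFrobenius k 2 ((2 * m + 1) * 2)) g := by
  have h : T k m 4 = Cfsg.Agent.GpExc.Field.emb hD (iterateFrobenius k 2 ((2 * m + 1) * 2)) := by
    refine MonoidHom.eq_of_eqOn_dense closure_xg ?_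
    rintro _ ⟨r, hr, t, rfl⟩
    rw [T_four_xg hr, emb_xg, iterateFrobenius_def, ← pow_mul]
  exact DFunLike.congr_fun h g

theorem T_comm {r s : ℕ} (hr : r < 48) (hs : s < 48) {i j : ℕ} (h : Cm (it r i) (it s j) = true) (t u : k) :
    Commute (T k m i (xg r t)) (T k m j (xg s u)) := by
  rw [T_xg hr, T_xg hs]
  exact xg_comm h _ _

/-- the two orbits commute -/
def AC (r s : ℕ) : Bool := decide (r < 48) && (decide (s < 48) &&
  (List.range 4).all fun i => (List.range 4).all fun j => Cm (it r i) (it s j))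

theorem ac {r s : ℕ} (h : AC r s = true) {i j : ℕ} (hi : i < 4) (hj : j < 4) (t u : k) :
    Commute (T k m i (xg r t)) (T k m j (xg s u)) := by
  unfold AC at h
  simp only [Bool.and_eq_true, decide_eq_true_eq] at h
  obtain ⟨hr, hs, h⟩ := h
  rw [List.all_eq_true] at h
  have h1 := h i (List.mem_range.2 hi)
  rw [List.all_eq_true] at h1
  exact T_comm hr hs (h1 j (List.mem_range.2 hj)) t u

variable (k m) in
/-- the fixed points of `τ` -/
noncomputable def fixG : Subgroup ↥(chevF4.group k) := (tau k m).eqLocus (MonoidHom.id _)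

theorem mem_fixG {g : ↥(chevF4.group k)} : g ∈ fixG k m ↔ tau k m g = g := Iff.rfl

/-! ### products over orbits -/

variable (k m) in
/-- the product over half an orbit -/
noncomputable def P2 (g : ↥(chevF4.group k)) : ↥(chevF4.group k) := g * tau k m g

variable (k m) in
/-- the product over an orbit -/
noncomputable def P4 (g : ↥(chevF4.group k)) : ↥(chevF4.group k) := g * T k m 1 g * T k m 2 g * T k m 3 g

theorem tau_P2 {g : ↥(chevF4.group k)} (h2 : T k m 2 g = g) (hc : Commute g (tau k m g)) :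
    tau k m (P2 k m g) = P2 k m g := by
  unfold P2
  rw [map_mul]
  have h : tau k m (tau k m g) = g := h2
  rw [h, hc.eq]

theorem tau_P4 {g : ↥(chevF4.group k)} (h4 : T k m 4 g = g) (c1 : Commute g (T k m 1 g))
    (c2 : Commute g (T k m 2 g)) (c3 : Commute g (T k m 3 g)) : tau k m (P4 k m g) = P4 k m g := by
  unfold P4
  rw [map_mul, map_mul, map_mul, ← T_succ, ← T_succ, ← T_succ, h4, ← T_one]
  have h : Commute g (T k m 1 g * T k m 2 g * T k m 3 g) := (c1.mul_right c2).mul_right c3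
  rw [← h.eq]
  group

theorem shift2 {w R y : ↥(chevF4.group k)} (hy : tau k m y = y) (h : y⁻¹ * w * y = w * R)
    (hc : Commute R (tau k m w)) : y⁻¹ * P2 k m w * y = P2 k m w * P2 k m R := by
  have h1 := congrArg (tau k m) h
  rw [map_mul, map_mul, map_mul, map_inv, hy] at h1
  unfold P2
  calc y⁻¹ * (w * tau k m w) * y = (y⁻¹ * w * y) * (y⁻¹ * tau k m w * y) := by group
    _ = w * (R * tau k m w) * tau k m R := by rw [h, h1]; group
    _ = _ := by rw [hc.eq]; group

theorem fix2 {w y : ↥(chevF4.group k)} (hy : tau k m y = y) (h : y⁻¹ * w * y = w) :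
    y⁻¹ * P2 k m w * y = P2 k m w := by
  have h1 := congrArg (tau k m) h
  rw [map_mul, map_mul, map_inv, hy] at h1
  unfold P2
  calc y⁻¹ * (w * tau k m w) * y = (y⁻¹ * w * y) * (y⁻¹ * tau k m w * y) := by group
    _ = _ := by rw [h, h1]

end

end Cfsg.Agent.H305.PG
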